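import Mathlib

/-!
Brauer's theorem: over an algebraically closed field of characteristic `p` a finite group has as
many simple modules as conjugacy classes of elements of order prime to `p`.
-/

set_option autoImplicit false

namespace CfsgLib.Modular

open MonoidAlgebra (single)

variable {G : Type*} [Group G] [Fintype G] {k : Type*} [Field k] {p : ℕ} [Fact p.Prime] [CharP k p]

/-- The conjugacy classes of elements of order prime to `p`. -/
abbrev RegClass (G : Type*) [Group G] (p : ℕ) : Type _ :=
  {c : ConjClasses G // ∃ g : G, ConjClasses.mk g = c ∧ (orderOf g).Coprime p}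

omit [Fact p.Prime] [CharP k p] in
theorem pow_eq_sum_words (x : MonoidAlgebra k G) (n : ℕ) :
    x ^ n = ∑ f : Fin n → G, single (List.ofFn f).prod (∏ i, x.coeff (f i)) := by
  induction n with
  | zero => simp [MonoidAlgebra.one_def]
  | succ n ih =>
    have hx : x = ∑ g : G, single g (x.coeff g) := by
      ext y
      classical
      simp [MonoidAlgebra.coeff_sum, Finsupp.finsetSum_apply, Finsupp.single_apply]
    rw [pow_succ', ih]
    conv_lhs => rw [hx, Finset.sum_mul_sum, ← Finset.sum_product']
    refine Fintype.sum_equiv (Fin.consEquiv fun _ => G) _ _ fun a => ?_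
    simp [Fin.consEquiv, MonoidAlgebra.single_mul_single, Fin.prod_univ_succ]

/-- The `p`-th power modulo commutators: only the constant words are left. -/
theorem sum_coeff_pow (x : MonoidAlgebra k G) (ψ : G → k) (hψ : ∀ a b : G, ψ (a * b) = ψ (b * a)) :
    ∑ y : G, (x ^ p).coeff y * ψ y = ∑ g : G, x.coeff g ^ p * ψ (g ^ p) := by
  classical
  have hp := (Fact.out : p.Prime)
  set F : (Fin p → G) → k := fun f => (∏ i, x.coeff (f i)) * ψ (List.ofFn f).prod with hF
  have h1 : ∑ y : G, (x ^ p).coeff y * ψ y = ∑ f, F f := by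
    simp only [pow_eq_sum_words, MonoidAlgebra.coeff_sum, Finsupp.finsetSum_apply,
      MonoidAlgebra.coeff_single, Finset.sum_mul]
    rw [Finset.sum_comm]
    refine Finset.sum_congr rfl fun f _ => ?_
    rw [Finset.sum_eq_single (List.ofFn f).prod]
    · simp [hF]
    · intro y _ hy; simp [Ne.symm hy]
    · simp
  rw [h1]
  haveI : NeZero p := ⟨hp.ne_zero⟩
  let act : MulAction (Multiplicative (Fin p)) (Fin p → G) :=
    { smul := fun a f i => f (i + a.toAdd)
      one_smul := fun f => funext fun i => congrArg f (add_zero i)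
      mul_smul := fun a b f => funext fun i => congrArg f (by
        show i + (a.toAdd + b.toAdd) = i + a.toAdd + b.toAdd
        rw [add_assoc]) }
  letI := act
  have hQ : IsPGroup p (Multiplicative (Fin p)) := IsPGroup.of_card (n := 1) (by
    rw [Nat.card_congr Multiplicative.toAdd, Nat.card_eq_fintype_card, Fintype.card_fin, pow_one])
  have hone : ∀ f : Fin p → G, F (fun i => f (i + 1)) = F f := by
    intro f
    simp only [hF]
    congr 1
    · exact Fintype.prod_equiv (Equiv.addRight (1 : Fin p)) _ _ fun i => rfl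
    · obtain ⟨m, hm⟩ := Nat.exists_eq_succ_of_ne_zero hp.ne_zero
      subst hm
      rw [List.ofFn_succ', List.ofFn_succ, List.concat_eq_append, List.prod_append,
        List.prod_singleton, List.prod_cons, hψ]
      congr 2
      · congr 1; exact Fin.last_add_one m
      · congr 2
        funext i
        congr 1
        exact Fin.coeSucc_eq_succ
  have hinv : ∀ (a : Multiplicative (Fin p)) (f : Fin p → G), F (a • f) = F f := by
    intro a f
    open Fin.NatCast in
    have key : ∀ j : ℕ, F (fun i => f (i + (j : Fin p))) = F f := by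
      intro j
      induction j with
      | zero => simp
      | succ j ih =>
        rw [← ih, ← hone fun i => f (i + (j : Fin p))]
        congr 1
        funext i
        congr 1
        rw [Nat.cast_succ, add_assoc, add_comm (1 : Fin p)]
    rw [← key a.toAdd.val, Fin.cast_val_eq_self]
    rfl
  have hfix : ∀ f : Fin p → G, f ∈ MulAction.fixedPoints (Multiplicative (Fin p)) (Fin p → G) ↔
      ∃ g, f = fun _ => g := by
    intro f
    refine ⟨fun hf => ⟨f 0, funext fun i => ?_⟩, fun ⟨g, e⟩ a => by subst e; rfl⟩
    have := congrFun (hf (Multiplicative.ofAdd i)) 0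
    show f i = f 0
    rw [← this]
    show f i = f (0 + i)
    rw [zero_add]
  have h2 : ∑ f, F f = ∑ f ∈ Finset.univ.filter
      (fun f => f ∈ MulAction.fixedPoints (Multiplicative (Fin p)) (Fin p → G)), F f := by
    rw [← Finset.sum_filter_add_sum_filter_not Finset.univ
      (fun f => f ∈ MulAction.fixedPoints (Multiplicative (Fin p)) (Fin p → G)), add_eq_left]
    rw [← Finset.sum_fiberwise (g := fun f : Fin p → G =>
      (Quotient.mk (MulAction.orbitRel (Multiplicative (Fin p)) (Fin p → G)) f))]
    refine Finset.sum_eq_zero fun o _ => ?_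
    induction o using Quotient.inductionOn with
    | h f =>
    by_cases hf : f ∈ MulAction.fixedPoints (Multiplicative (Fin p)) (Fin p → G)
    · refine Finset.sum_eq_zero fun f' hf' => ?_
      simp only [Finset.mem_filter, Finset.mem_univ, true_and] at hf'
      obtain ⟨a, ha⟩ := MulAction.orbitRel_apply.1 (Quotient.exact hf'.2)
      exact absurd (show f' ∈ MulAction.fixedPoints (Multiplicative (Fin p)) (Fin p → G) by
        rw [← ha]; intro b; simp only [hf a, hf b]) hf'.1
    · rw [Finset.sum_congr rfl (g := fun _ => F f) fun f' hf' => ?_, Finset.sum_const]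
      · obtain ⟨n, hn⟩ := hQ.card_orbit f
        have hset : (Finset.univ.filter fun f' => f' ∉ MulAction.fixedPoints
            (Multiplicative (Fin p)) (Fin p → G)).filter
            (fun f' => Quotient.mk (MulAction.orbitRel (Multiplicative (Fin p)) (Fin p → G)) f' =
              Quotient.mk (MulAction.orbitRel (Multiplicative (Fin p)) (Fin p → G)) f) =
            (MulAction.orbit (Multiplicative (Fin p)) f).toFinset := by
          ext f'
          simp only [Finset.mem_filter, Finset.mem_univ, true_and, Set.mem_toFinset]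
          constructor
          · exact fun h => MulAction.orbitRel_apply.1 (Quotient.exact h.2)
          · intro h
            refine ⟨fun hf' => hf ?_, Quotient.sound (MulAction.orbitRel_apply.2 h)⟩
            obtain ⟨a, ha⟩ := MulAction.orbit_eq_iff.1 (MulAction.orbit_eq_iff.2 h).symm
            rw [← ha]; intro b
            simp only [hf' a, hf' b]
        rw [hset, Set.toFinset_card, ← Nat.card_eq_fintype_card, hn]
        rcases n with _ | n
        · exfalso
          refine hf fun b => ?_
          have := Nat.card_eq_one_iff_unique.1 (hn.trans (pow_zero p))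
          exact congrArg Subtype.val (@Subsingleton.elim _ this.1 ⟨_, MulAction.mem_orbit f b⟩
            ⟨f, MulAction.mem_orbit_self f⟩)
        · rw [← Nat.cast_smul_eq_nsmul k, Nat.cast_pow, CharP.cast_eq_zero,
            zero_pow n.succ_ne_zero, zero_smul]
      · simp only [Finset.mem_filter, Finset.mem_univ, true_and] at hf'
        obtain ⟨a, ha⟩ := MulAction.orbitRel_apply.1 (Quotient.exact hf'.2)
        rw [← ha]; exact hinv a f
  rw [h2]
  refine Finset.sum_bij (fun f _ => f 0) (fun _ _ => Finset.mem_univ _) ?_ (fun g _ => ?_) ?_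
  · intro a ha b hb e
    obtain ⟨g, rfl⟩ := (hfix a).1 (Finset.mem_filter.1 ha).2
    obtain ⟨g', rfl⟩ := (hfix b).1 (Finset.mem_filter.1 hb).2
    exact funext fun _ => e
  · exact ⟨fun _ => g, Finset.mem_filter.2 ⟨Finset.mem_univ _, (hfix _).2 ⟨g, rfl⟩⟩, rfl⟩
  · intro a ha
    obtain ⟨g, rfl⟩ := (hfix a).1 (Finset.mem_filter.1 ha).2
    simp [hF, Finset.prod_const, List.ofFn_const, List.prod_replicate]

/-- Iterated powers for an indicator. -/
theorem sum_coeff_pow_pow (x : MonoidAlgebra k G) (P : G → Prop) [DecidablePred P]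
    (hP : ∀ a b : G, P (a * b) ↔ P (b * a)) (j : ℕ) :
    ∑ y : G, (x ^ p ^ j).coeff y * (if P y then 1 else 0) =
      (∑ g : G, x.coeff g * (if P (g ^ p ^ j) then 1 else 0)) ^ p ^ j := by
  induction j generalizing P with
  | zero => simp
  | succ j ih =>
    rw [pow_succ, pow_mul, sum_coeff_pow (p := p) (x ^ p ^ j) _
      (fun a b => if_congr (hP a b) rfl rfl)]
    have e : ∀ g : G, (x ^ p ^ j).coeff g ^ p * (if P (g ^ p) then (1 : k) else 0) =
        ((x ^ p ^ j).coeff g * (if P (g ^ p) then 1 else 0)) ^ p := fun g => by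
      split <;> simp [(Fact.out : p.Prime).ne_zero]
    rw [Finset.sum_congr rfl fun g _ => e g, ← sum_pow_char]
    rw [ih (fun g => P (g ^ p)) fun a b => ?_, ← pow_mul, ← pow_succ]
    · refine congrArg (· ^ p ^ (j + 1)) (Finset.sum_congr rfl fun g _ => ?_)
      simp only [← pow_mul, ← pow_succ]
    · have hc : ∀ c g : G, P (c * g * c⁻¹) ↔ P g := fun c g => by
        rw [hP, ← mul_assoc, inv_mul_cancel, one_mul]
      have : (b * a) ^ p = a⁻¹ * (a * b) ^ p * a := by
        have h := conj_pow (a := a⁻¹) (b := a * b) (i := p)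
        rw [show a⁻¹ * (a * b) * a⁻¹⁻¹ = b * a by group, inv_inv] at h
        exact h
      rw [this]
      conv_rhs => rw [show a⁻¹ * (a * b) ^ p * a = a⁻¹ * (a * b) ^ p * a⁻¹⁻¹ by group, hc]

local notation "𝒜" => MonoidAlgebra k G

/-- The data of the simple modules of a group algebra, as many as the `p`-regular classes. -/
theorem exists_simples [IsAlgClosed k] :
    ∃ (N : ℕ) (d : Fin N → ℕ) (π : ∀ i, MonoidAlgebra k G →ₐ[k] Matrix (Fin (d i)) (Fin (d i)) k),
      N = Nat.card (RegClass G p) ∧ (∀ i, NeZero (d i)) ∧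
      Function.Surjective (fun (x : MonoidAlgebra k G) i => π i x) ∧
      ∃ n : ℕ, ∀ x, (∀ i, π i x = 0) → x ^ n = 0 := by
  classical
  haveI : IsArtinianRing 𝒜 := IsArtinianRing.of_finite k 𝒜
  haveI : FiniteDimensional k (𝒜 ⧸ Ring.jacobson 𝒜) := Module.Finite.of_surjective
    (Ideal.Quotient.mkₐ k (Ring.jacobson 𝒜)).toLinearMap Ideal.Quotient.mk_surjective
  obtain ⟨N, d, hd, ⟨e⟩⟩ :=
    IsSemisimpleRing.exists_algEquiv_pi_matrix_of_isAlgClosed k (𝒜 ⧸ Ring.jacobson 𝒜)
  let π₀ : 𝒜 →ₐ[k] Π i, Matrix (Fin (d i)) (Fin (d i)) k :=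
    e.toAlgHom.comp (Ideal.Quotient.mkₐ k (Ring.jacobson 𝒜))
  have hπ₀ : Function.Surjective π₀ := e.surjective.comp Ideal.Quotient.mk_surjective
  obtain ⟨n, hn⟩ := IsSemiprimaryRing.isNilpotent (R := 𝒜)
  have hker : ∀ x, π₀ x = 0 → x ^ n = 0 := by
    intro x hx
    have h1 : x ∈ Ring.jacobson 𝒜 := by
      rw [← Ideal.Quotient.eq_zero_iff_mem]
      exact e.injective (by rw [map_zero]; exact hx)
    have h2 := Ideal.pow_mem_pow h1 n
    rw [hn] at h2
    exact h2
  refine ⟨N, d, fun i => (Pi.evalAlgHom k _ i).comp π₀, ?_, hd, fun y => ?_,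
    n, fun x hx => hker x (funext hx)⟩
  swap
  · obtain ⟨x, hx⟩ := hπ₀ y
    exact ⟨x, hx⟩
  -- the `p'`-part as a power
  have hp := (Fact.out : p.Prime)
  set a := (Nat.card G).factorization p with ha
  set m := Nat.card G / p ^ a with hm
  have hcard : Nat.card G = p ^ a * m := (Nat.ordProj_mul_ordCompl_eq_self _ _).symm
  have hmp : p.Coprime m := (Nat.coprime_ordCompl hp Nat.card_pos.ne')
  set t := (a + 1) * m.totient with ht
  set q := p ^ t with hq
  have hm0 : 0 < m := Nat.ordCompl_pos p Nat.card_pos.ne'
  have hat : a < t := by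
    have := Nat.totient_pos.2 hm0
    calc a < a + 1 := Nat.lt_succ_self a
      _ ≤ t := Nat.le_mul_of_pos_right _ this
  have hq1 : q ≡ 1 [MOD m] := by
    rw [hq, ht, mul_comm, pow_mul]
    simpa using (Nat.ModEq.pow_totient hmp).pow (a + 1)
  have hGm : ∀ g : G, (g ^ q) ^ m = 1 := by
    intro g
    rw [← pow_mul]
    refine orderOf_dvd_iff_pow_eq_one.1 ((orderOf_dvd_natCard g).trans ?_)
    rw [hcard]
    exact Nat.mul_dvd_mul_right (pow_dvd_pow p hat.le) m
  have hpow_m : ∀ s : G, s ^ m = 1 → s ^ q = s := by
    intro s hs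
    conv_rhs => rw [← pow_one s]
    exact pow_eq_pow_iff_modEq.2 (hq1.of_dvd (orderOf_dvd_iff_pow_eq_one.2 hs))
  have hreg : ∀ g : G, (orderOf (g ^ q)).Coprime p := fun g =>
    (Nat.Coprime.coprime_dvd_right (orderOf_dvd_iff_pow_eq_one.2 (hGm g)) hmp).symm
  have hfix : ∀ g : G, (orderOf g).Coprime p → g ^ q = g := by
    intro g hg
    refine hpow_m g (orderOf_dvd_iff_pow_eq_one.1 ?_)
    have h1 : orderOf g ∣ p ^ a * m := hcard ▸ orderOf_dvd_natCard g
    exact (Nat.Coprime.pow_right a hg).dvd_of_dvd_mul_left h1
  have := Fintype.ofFinite (RegClass G p)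
  let cls : G → RegClass G p := fun g => ⟨ConjClasses.mk (g ^ q), g ^ q, rfl, hreg g⟩
  have hclsmul : ∀ x y : G, cls (x * y) = cls (y * x) := fun x y => by
    refine Subtype.ext (ConjClasses.mk_eq_mk_iff_isConj.2 (IsConj.pow q ?_))
    exact isConj_iff.2 ⟨y, by group⟩
  let Φ : 𝒜 →ₗ[k] (RegClass G p → k) :=
    { toFun := fun x c => ∑ g : G, x.coeff g * (if cls g = c then 1 else 0)
      map_add' := fun x y => funext fun c => by
        show ∑ g : G, (x + y).coeff g * _ = _
        simp only [MonoidAlgebra.coeff_add, Finsupp.add_apply, add_mul, Finset.sum_add_distrib,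
          Pi.add_apply]
      map_smul' := fun r x => funext fun c => by
        show ∑ g : G, (r • x).coeff g * _ = _
        simp only [MonoidAlgebra.coeff_smul, Finsupp.smul_apply, smul_eq_mul, Finset.mul_sum,
          mul_assoc, Pi.smul_apply, RingHom.id_apply] }
  have hΦsingle : ∀ g : G, Φ (single g 1) = Pi.single (cls g) 1 := by
    intro g
    funext c
    show ∑ h : G, (single g (1 : k)).coeff h * _ = _
    rw [Finset.sum_eq_single g]
    · simp [Pi.single_apply, eq_comm]
    · intro h _ hne; simp [Ne.symm hne]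
    · simp
  have hΦcomm : ∀ x y : 𝒜, Φ (x * y) = Φ (y * x) := by
    intro x y
    induction x using MonoidAlgebra.induction_on with
    | of g =>
      induction y using MonoidAlgebra.induction_on with
      | of h =>
        simp only [MonoidAlgebra.of_apply, MonoidAlgebra.single_mul_single, mul_one]
        rw [hΦsingle, hΦsingle, hclsmul]
      | add u v hu hv => rw [mul_add, add_mul, map_add, map_add, hu, hv]
      | smul r u hu => rw [mul_smul_comm, smul_mul_assoc, map_smul, map_smul, hu]
    | add u v hu hv => rw [mul_add, add_mul, map_add, map_add, hu, hv]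
    | smul r u hu => rw [mul_smul_comm, smul_mul_assoc, map_smul, map_smul, hu]
  have hΦnil : ∀ x : 𝒜, π₀ x = 0 → Φ x = 0 := by
    intro x hx
    funext c
    show ∑ g : G, x.coeff g * (if cls g = c then 1 else 0) = 0
    have hj : ∀ j, ∀ g : G, cls (g ^ q ^ j) = cls g := by
      intro j
      induction j with
      | zero => simp
      | succ j ih =>
        intro g
        rw [pow_succ, pow_mul]
        refine Eq.trans ?_ (ih g)
        refine Subtype.ext (congrArg ConjClasses.mk ?_)
        exact hpow_m _ (hGm _)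
    obtain ⟨j, hj'⟩ : ∃ j, n ≤ q ^ j := ⟨n, (Nat.lt_pow_self (Nat.one_lt_pow
      (by omega : t ≠ 0) hp.one_lt)).le⟩
    have h1 := sum_coeff_pow_pow (p := p) x (fun g => cls g = c)
      (fun u v => by rw [hclsmul]) (t * j)
    rw [pow_mul, ← hq, pow_eq_zero_of_le hj' (hker x hx)] at h1
    simp only [MonoidAlgebra.coeff_zero, Finsupp.coe_zero, Pi.zero_apply, zero_mul,
      Finset.sum_const_zero, hj] at h1
    exact (pow_eq_zero_iff (pow_ne_zero _ (pow_ne_zero _ hp.ne_zero))).1 h1.symm
  let τ : 𝒜 →ₗ[k] (Fin N → k) :=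
    LinearMap.pi fun i => (Matrix.traceLinearMap (Fin (d i)) k k).comp
      ((LinearMap.proj i).comp π₀.toLinearMap)
  have hτ : ∀ x i, τ x i = Matrix.trace (π₀ x i) := fun _ _ => rfl
  have hτsurj : Function.Surjective τ := by
    intro y
    obtain ⟨x, hx⟩ := hπ₀ fun i => Matrix.single (0 : Fin (d i)) 0 (y i)
    exact ⟨x, funext fun i => by rw [hτ, hx, Matrix.trace_single_eq_same]⟩
  have hτcomm : ∀ x y : 𝒜, τ (x * y) = τ (y * x) := fun x y => funext fun i => by
    rw [hτ, hτ, map_mul, map_mul, Pi.mul_apply, Pi.mul_apply, Matrix.trace_mul_comm]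
  have hΦsurj : Function.Surjective Φ := by
    rw [← LinearMap.range_eq_top, eq_top_iff, ← (Pi.basisFun k (RegClass G p)).span_eq,
      Submodule.span_le]
    rintro _ ⟨⟨c, g, hgc, hg⟩, rfl⟩
    refine ⟨single g 1, ?_⟩
    rw [hΦsingle, Pi.basisFun_apply]
    congr
    exact Subtype.ext (by show ConjClasses.mk (g ^ q) = c; rw [hfix g hg, hgc])
  apply le_antisymm
  · -- the traces are constant on `p`-sections
    let M : (RegClass G p → k) →ₗ[k] (Fin N → k) :=
      ∑ c : RegClass G p, (LinearMap.proj c).smulRight (τ (single c.2.choose 1))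
    have hM : ∀ g : G, M (Φ (single g 1)) = τ (single g 1) := by
      intro g
      rw [hΦsingle, LinearMap.sum_apply, Finset.sum_eq_single (cls g)]
      · simp only [LinearMap.smulRight_apply, LinearMap.proj_apply, Pi.single_eq_same, one_smul]
        obtain ⟨hs, -⟩ := (cls g).2.choose_spec
        set s := (cls g).2.choose
        have hsg : IsConj s (g ^ q) := ConjClasses.mk_eq_mk_iff_isConj.1 hs
        obtain ⟨c, hc⟩ := isConj_iff.1 hsg
        have e1 : τ (single s 1) = τ (single (g ^ q) 1) := by
          rw [← hc, show c * s * c⁻¹ = (c * s) * c⁻¹ from rfl]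
          conv_rhs => rw [← mul_one (1 : k), ← MonoidAlgebra.single_mul_single, hτcomm,
            MonoidAlgebra.single_mul_single, mul_one, inv_mul_cancel_left]
        rw [e1]
        funext i
        rw [hτ, hτ]
        set u := g * (g ^ q)⁻¹ with hu
        have hcgu : Commute g (g ^ q) := (Commute.refl g).pow_right q
        have huq : u ^ q = 1 := by
          rw [hu, (hcgu.inv_right).mul_pow, inv_pow, hpow_m _ (hGm g), mul_inv_cancel]
        have hgu : g = g ^ q * u := by
          rw [hu, ← mul_assoc, ← hcgu.eq, mul_assoc, mul_inv_cancel, mul_one]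
        set X := π₀ (single (g ^ q) 1) i with hX
        set U := π₀ (single u 1) i with hU
        have hXU : π₀ (single g 1) i = X * U := by
          rw [hX, hU, ← Pi.mul_apply, ← map_mul, MonoidAlgebra.single_mul_single, ← hgu]
          simp only [mul_one]
        have hcomm : Commute X U := by
          show X * U = U * X
          rw [hX, hU, ← Pi.mul_apply, ← Pi.mul_apply, ← map_mul, ← map_mul,
            MonoidAlgebra.single_mul_single, MonoidAlgebra.single_mul_single]
          rw [← hgu, hu, inv_mul_cancel_right]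
        have hnil : IsNilpotent (X * (U - 1)) := by
          refine (hcomm.sub_right (Commute.one_right X)).isNilpotent_mul_left ⟨q, ?_⟩
          haveI : CharP (Matrix (Fin (d i)) (Fin (d i)) k) p := inferInstance
          rw [hq, sub_pow_char_pow_of_commute p t (Commute.one_right U), one_pow, ← hq, hU,
            ← Pi.pow_apply, ← map_pow, MonoidAlgebra.single_pow, huq, one_pow,
            ← MonoidAlgebra.one_def, map_one, Pi.one_apply, sub_self]
        have := (Matrix.isNilpotent_trace_of_isNilpotent hnil).eq_zero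
        rw [mul_sub, mul_one, Matrix.trace_sub, sub_eq_zero] at this
        rw [hXU, this]
      · intro c _ hne; simp [hne]
      · simp
    have hfac : ∀ x, M (Φ x) = τ x := by
      intro x
      induction x using MonoidAlgebra.induction_on with
      | of g => exact hM g
      | add u v hu hv => rw [map_add, map_add, map_add, hu, hv]
      | smul r u hu => rw [map_smul, map_smul, map_smul, hu]
    have hMsurj : Function.Surjective M := fun y => by
      obtain ⟨x, hx⟩ := hτsurj y
      exact ⟨Φ x, (hfac x).trans hx⟩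
    have := LinearMap.finrank_range_of_inj (f := (LinearMap.id : (Fin N → k) →ₗ[k] _))
    have h2 := LinearMap.finrank_le_finrank_of_injective (f := M.dualMap)
      (LinearMap.dualMap_injective_of_surjective hMsurj)
    simpa [Subspace.dual_finrank_eq, Nat.card_eq_fintype_card] using h2
  · -- a central function kills the radical
    let E : ∀ i, 𝒜 := fun i => (hπ₀ (Pi.single i (Matrix.single 0 0 1))).choose
    have hE : ∀ i, π₀ (E i) = Pi.single i (Matrix.single 0 0 1) :=
      fun i => (hπ₀ (Pi.single i (Matrix.single 0 0 1))).choose_spec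
    have hwell : ∀ x y : 𝒜, π₀ x = π₀ y → Φ x = Φ y := by
      intro x y e
      rw [← sub_eq_zero, ← map_sub]
      exact hΦnil _ (by rw [map_sub, e, sub_self])
    let L : (Fin N → k) →ₗ[k] (RegClass G p → k) :=
      ∑ i, (LinearMap.proj i).smulRight (Φ (E i))
    have hL : ∀ x, L (τ x) = Φ x := by
      let Φ' : (Π i, Matrix (Fin (d i)) (Fin (d i)) k) →ₗ[k] (RegClass G p → k) :=
        { toFun := fun y => Φ (Function.surjInv hπ₀ y)
          map_add' := fun y z => by
            rw [← map_add]; exact hwell _ _ (by simp [Function.surjInv_eq hπ₀])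
          map_smul' := fun r y => by
            rw [RingHom.id_apply, ← map_smul]; exact hwell _ _ (by simp [Function.surjInv_eq hπ₀]) }
      have hΦ' : ∀ x, Φ' (π₀ x) = Φ x := fun x => hwell _ _ (Function.surjInv_eq hπ₀ _)
      have hΦ'comm : ∀ y z, Φ' (y * z) = Φ' (z * y) := by
        intro y z
        obtain ⟨u, rfl⟩ := hπ₀ y
        obtain ⟨v, rfl⟩ := hπ₀ z
        rw [← map_mul, ← map_mul, hΦ', hΦ', hΦcomm]
      have key : ∀ i (r s : Fin (d i)), Φ' (Pi.single i (Matrix.single r s 1)) =
          if r = s then Φ (E i) else 0 := by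
        intro i r s
        have : Matrix.single r s (1 : k) = Matrix.single r 0 1 * Matrix.single 0 s 1 := by simp
        rw [this, Pi.single_mul, hΦ'comm, ← Pi.single_mul]
        by_cases hrs : r = s
        · subst hrs
          rw [if_pos rfl, Matrix.single_mul_single_same, mul_one, ← hE, hΦ']
        · rw [if_neg hrs, Matrix.single_mul_single_of_ne _ _ _ _ (Ne.symm hrs), Pi.single_zero,
            map_zero]
      intro x
      rw [← hΦ' x, LinearMap.sum_apply]
      conv_rhs => rw [← Finset.univ_sum_single (π₀ x), map_sum]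
      refine Finset.sum_congr rfl fun i _ => ?_
      rw [LinearMap.smulRight_apply, LinearMap.proj_apply, hτ]
      conv_rhs => rw [Matrix.matrix_eq_sum_single (π₀ x i)]
      rw [← LinearMap.coe_single k _ i, map_sum, map_sum, Matrix.trace, Finset.sum_smul]
      refine Finset.sum_congr rfl fun r _ => ?_
      rw [map_sum, map_sum]
      have e : ∀ s, Φ' (LinearMap.single k _ i (Matrix.single r s (π₀ x i r s))) =
          π₀ x i r s • (if r = s then Φ (E i) else 0) := fun s => by
        rw [show Matrix.single r s (π₀ x i r s) = π₀ x i r s • Matrix.single r s (1 : k) by simp,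
          map_smul, map_smul, LinearMap.coe_single, key]
      rw [Finset.sum_congr rfl fun s _ => e s, Finset.sum_eq_single r]
      · simp [Matrix.diag]
      · intro s _ hs; simp [Ne.symm hs]
      · simp
    have hLsurj : Function.Surjective L := fun y => by
      obtain ⟨x, hx⟩ := hΦsurj y
      exact ⟨τ x, (hL x).trans hx⟩
    have h2 := LinearMap.finrank_le_finrank_of_injective (f := L.dualMap)
      (LinearMap.dualMap_injective_of_surjective hLsurj)
    simpa [Subspace.dual_finrank_eq, Nat.card_eq_fintype_card] using h2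

section Blocks

variable {N : ℕ} {d : Fin N → ℕ}
  (π : ∀ i : Fin N, MonoidAlgebra k G →ₐ[k] Matrix (Fin (d i)) (Fin (d i)) k)

/-- The representation given by a block. -/
noncomputable def blockRep (i : Fin N) : Representation k G (Fin (d i) → k) :=
  (Matrix.toLinAlgEquiv'.toAlgHom.comp (π i)).toMonoidHom.comp (MonoidAlgebra.of k G)

omit [Fintype G] in
lemma asAlgebraHom_blockRep (i : Fin N) (x : 𝒜) :
    (blockRep π i).asAlgebraHom x = Matrix.toLinAlgEquiv' (π i x) := by
  induction x using MonoidAlgebra.induction_on with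
  | of g => rw [Representation.asAlgebraHom_of]; rfl
  | add u v hu hv => rw [map_add, map_add, map_add, hu, hv]
  | smul r u hu => rw [map_smul, map_smul, map_smul, hu]

omit [Fintype G] in
lemma mem_of_invariant {V : Type*} [AddCommGroup V] [Module k V] (ρ : Representation k G V)
    {W : Submodule k V} (hW : ∀ g, ∀ w ∈ W, ρ g w ∈ W) {w : V} (hw : w ∈ W) (x : 𝒜) :
    ρ.asAlgebraHom x w ∈ W := by
  induction x using MonoidAlgebra.induction_on with
  | of g => rw [Representation.asAlgebraHom_of]; exact hW g w hw
  | add u v hu hv => rw [map_add, LinearMap.add_apply]; exact W.add_mem hu hv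
  | smul r u hu => rw [map_smul, LinearMap.smul_apply]; exact W.smul_mem r hu

omit [Fintype G] in
lemma comm_asAlgebraHom {V V' : Type*} [AddCommGroup V] [Module k V] [AddCommGroup V']
    [Module k V'] {ρ : Representation k G V} {ρ' : Representation k G V'} {T : V →ₗ[k] V'}
    (hT : ∀ g v, T (ρ g v) = ρ' g (T v)) (x : 𝒜) (v : V) :
    T (ρ.asAlgebraHom x v) = ρ'.asAlgebraHom x (T v) := by
  induction x using MonoidAlgebra.induction_on with
  | of g => rw [Representation.asAlgebraHom_of, Representation.asAlgebraHom_of, hT]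
  | add u w hu hw => rw [map_add, map_add, LinearMap.add_apply, map_add, hu, hw,
      LinearMap.add_apply]
  | smul r u hu => rw [map_smul, map_smul, LinearMap.smul_apply, map_smul, hu,
      LinearMap.smul_apply]

variable (hsurj : Function.Surjective (fun (x : MonoidAlgebra k G) i => π i x)) (hd : ∀ i, NeZero (d i))

include hsurj hd in
omit [Fintype G] in
/-- A block representation has no proper invariant subspace. -/
theorem blockRep_irreducible (i : Fin N) {W : Submodule k (Fin (d i) → k)}
    (hW : ∀ g, ∀ w ∈ W, blockRep π i g w ∈ W) : W = ⊥ ∨ W = ⊤ := by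
  classical
  refine or_iff_not_imp_left.2 fun hne => eq_top_iff.2 fun y _ => ?_
  obtain ⟨w, hw, hw0⟩ := Submodule.exists_mem_ne_zero_of_ne_bot hne
  obtain ⟨j, hj⟩ := Function.ne_iff.1 hw0
  obtain ⟨x, hx⟩ := hsurj (Pi.single i (Matrix.vecMulVec ((w j)⁻¹ • y) (Pi.single j 1)))
  have h1 := mem_of_invariant (blockRep π i) hW hw x
  rw [asAlgebraHom_blockRep, Matrix.toLinAlgEquiv'_apply,
    show π i x = _ from (congrFun hx i).trans (Pi.single_eq_same _ _), Matrix.vecMulVec_mulVec,
    single_dotProduct, one_mul, op_smul_eq_smul, smul_smul, mul_inv_cancel₀ hj, one_smul] at h1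
  exact h1

include hsurj in
omit [Fintype G] in
/-- Different blocks have no common constituent. -/
theorem blockRep_intertwine {i j : Fin N} {T : (Fin (d i) → k) →ₗ[k] (Fin (d j) → k)}
    (hT : ∀ g v, T (blockRep π i g v) = blockRep π j g (T v)) (hne : i ≠ j) : T = 0 := by
  classical
  obtain ⟨x, hx⟩ := hsurj (Pi.single i 1)
  refine LinearMap.ext fun v => ?_
  have h1 := comm_asAlgebraHom hT x v
  rwa [asAlgebraHom_blockRep, asAlgebraHom_blockRep,
    show π i x = 1 from (congrFun hx i).trans (Pi.single_eq_same _ _),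
    show π j x = 0 from (congrFun hx j).trans (Pi.single_eq_of_ne (Ne.symm hne) _), map_one,
    map_zero, Module.End.one_apply, LinearMap.zero_apply] at h1

include hsurj in
omit [Fintype G] in
/-- Some block sees everything that the group algebra sees at a given vector. -/
theorem exists_block_vec (hnil : ∃ n : ℕ, ∀ x, (∀ i, π i x = 0) → x ^ n = 0) {V : Type*}
    [AddCommGroup V] [Module k V] (ρ : Representation k G V) {v : V} (hv : v ≠ 0) :
    ∃ (i : Fin N) (w : Fin (d i) → k), w ≠ 0 ∧
      ∀ x, ρ.asAlgebraHom x v = 0 → (blockRep π i).asAlgebraHom x w = 0 := by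
  classical
  obtain ⟨n, hn⟩ := hnil
  let I : Submodule k 𝒜 := LinearMap.ker ((LinearMap.applyₗ v).comp ρ.asAlgebraHom.toLinearMap)
  have hI : ∀ x, x ∈ I ↔ ρ.asAlgebraHom x v = 0 := fun x => Iff.rfl
  have hmul : ∀ y x, x ∈ I → y * x ∈ I := fun y x hx => by
    rw [hI, map_mul, Module.End.mul_apply, (hI x).1 hx, map_zero]
  let R : ∀ i, Submodule k (Fin (d i) → k) := fun i =>
    Submodule.span k {r | ∃ x ∈ I, ∃ a, r = π i x a}
  by_cases hR : ∃ i, R i ≠ ⊤
  · obtain ⟨i, hi⟩ := hR
    obtain ⟨f, hf0, hf⟩ := Submodule.exists_le_ker_of_lt_top (R i) (lt_top_iff_ne_top.2 hi)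
    refine ⟨i, fun j => f (Pi.single j 1), fun e => hf0 ?_, fun x hx => funext fun a => ?_⟩
    · exact LinearMap.pi_ext' fun j => LinearMap.ext_ring (congrFun e j)
    · have h1 : f (π i x a) = 0 := hf (Submodule.subset_span ⟨x, hx, a, rfl⟩)
      rw [pi_eq_sum_univ' (π i x a), map_sum] at h1
      rw [asAlgebraHom_blockRep, Matrix.toLinAlgEquiv'_apply, Pi.zero_apply]
      rw [← h1, Matrix.mulVec, dotProduct]
      refine Finset.sum_congr rfl fun j _ => ?_
      simp only [map_smul, smul_eq_mul]
  exfalso
  push Not at hR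
  -- every element of the product is reached from `I`
  have key : ∀ M : Π i, Matrix (Fin (d i)) (Fin (d i)) k, ∃ x ∈ I, (fun i => π i x) = M := by
    let P := I.map (LinearMap.pi fun i => (π i).toLinearMap)
    suffices hP : P = ⊤ by
      intro M
      obtain ⟨x, hx, e⟩ : M ∈ P := hP ▸ Submodule.mem_top
      exact ⟨x, hx, e⟩
    rw [eq_top_iff]
    intro M _
    rw [← Finset.univ_sum_single M]
    refine P.sum_mem fun i _ => ?_
    rw [Matrix.matrix_eq_sum_single (M i), ← LinearMap.coe_single k _ i, map_sum]
    refine P.sum_mem fun a _ => ?_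
    let L : (Fin (d i) → k) →ₗ[k] Π j, Matrix (Fin (d j)) (Fin (d j)) k :=
      (LinearMap.single k _ i).comp (∑ b, (LinearMap.proj b).smulRight (Matrix.single a b (1 : k)))
    suffices hL : R i ≤ P.comap L by
      have h1 : L (fun b => M i a b) ∈ P :=
        hL (by rw [hR i]; exact Submodule.mem_top : (fun b => M i a b) ∈ R i)
      convert h1 using 1
      simp only [L, LinearMap.comp_apply, LinearMap.sum_apply, map_sum, LinearMap.smulRight_apply,
        LinearMap.proj_apply]
      refine Finset.sum_congr rfl fun b _ => ?_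
      simp
    refine Submodule.span_le.2 ?_
    rintro r ⟨x, hx, c, rfl⟩
    obtain ⟨y, hy⟩ := hsurj (Pi.single i (Matrix.single a c 1))
    refine ⟨y * x, hmul y x hx, funext fun j => ?_⟩
    show π j (y * x) = _
    rw [map_mul, show π j y = Pi.single (M := fun j => Matrix (Fin (d j)) (Fin (d j)) k) i
      (Matrix.single a c (1 : k)) j from congrFun hy j]
    by_cases hj : j = i
    · subst hj
      simp only [L, LinearMap.comp_apply, LinearMap.coe_single, Pi.single_eq_same,
        LinearMap.sum_apply, LinearMap.smulRight_apply, LinearMap.proj_apply]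
      ext a' b'
      rw [Matrix.sum_apply]
      by_cases ha : a' = a
      · subst ha
        simp [Matrix.single_apply]
      · simp [Ne.symm ha, Matrix.single_apply, Matrix.mul_apply]
    · simp [L, Pi.single_eq_of_ne hj]
  obtain ⟨x, hx, e⟩ := key fun _ => 1
  have hy : (1 - x) ^ n = 0 := hn _ fun i => by
    rw [map_sub, map_one, show π i x = 1 from congrFun e i, sub_self]
  have hu : IsUnit x := by simpa using IsNilpotent.isUnit_one_sub ⟨n, hy⟩
  refine hv ?_
  have h1 := hmul (↑hu.unit⁻¹) x hx
  rwa [IsUnit.val_inv_mul, hI, map_one, Module.End.one_apply] at h1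

end Blocks

end CfsgLib.Modular
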